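import Cfsg.Agent.Fusion.PPowerDegree.Maps
import Cfsg.Agent.Fusion.PPowerTheory

/-!
Existence of saturated subsystems of `p`-power index.
-/

set_option autoImplicit false
set_option linter.unusedSectionVars false
set_option linter.style.haveILetI false

namespace Cfsg.Lib.Fusion.PDeg

open Cfsg Cfsg.FusionSystem Cfsg.Lib.Fusion

universe u v

variable {Ω : Type u} [Group Ω] {S T : Subgroup Ω} {F : FusionSystem S} {p : ℕ}
  {A : Type v} [CommGroup A] (C : Ctx F T p A) [Finite S] [Fact p.Prime]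
  {d : Subgroup Ω → (Ω → Ω) → A}

include C in
theorem mem_T_iff {P : Subgroup Ω} {f : Ω → Ω} (hf : IsMap F P f) {x : Ω} (hx : x ∈ P) :
    f x ∈ T ↔ x ∈ T := by
  rw [← C.ker _ (hf.mem_S hx), ← C.ker _ (hf.le hx), C.stable hf x hx]

/-- The maps of degree one between subgroups of `T`. -/
def system (d : Subgroup Ω → (Ω → Ω) → A) (hd : IsDegree C 0 d) : FusionSystem T where
  Hom P := {φ | φ ∈ F.Hom P ∧ P ≤ T ∧ (∀ x : P, φ x ∈ T) ∧ (Good C P → d P (toFun' φ) = 1)}
  le_of_mem h := ⟨h.2.1, h.2.2.1⟩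
  injective_of_mem h := F.injective_of_mem h.1
  conj_mem := by
    intro P g hP hg
    have hm := F.conj_mem (hP.trans C.le) (C.le hg)
    refine ⟨hm, hP, fun x => T.mul_mem (T.mul_mem hg (hP x.2)) (T.inv_mem hg), fun hG => ?_⟩
    rw [hd.congr (isMap_of_mem hm) hG (Nat.zero_le _) (f' := fun y => g * y * g⁻¹)
      (fun x hx => toFun'_apply_mem _ hx), hd.conj (hP.trans C.le) (C.le hg) hG (Nat.zero_le _)]
    exact (C.ker g (C.le hg)).mpr hg
  comp_mem := by
    intro P Q φ ψ hφ hψ h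
    refine ⟨F.comp_mem hφ.1 hψ.1 h, hφ.2.1, fun x => hψ.2.2.1 _, fun hG => ?_⟩
    have hf := isMap_of_mem hφ.1
    have hg := isMap_of_mem hψ.1
    have hi : img P (toFun' φ) ≤ Q := IsMap.img_le_iff.mpr fun x hx => by
      rw [toFun'_apply_mem φ hx]; exact h ⟨x, hx⟩
    have hGi := good_img C hG hf
    rw [hd.congr (isMap_of_mem (F.comp_mem hφ.1 hψ.1 h)) hG (Nat.zero_le _)
      (f' := toFun' ψ ∘ toFun' φ) (fun x hx => by
        show _ = toFun' ψ (toFun' φ x)
        rw [toFun'_apply_mem _ hx, toFun'_apply_mem φ hx, toFun'_apply_mem ψ (h ⟨x, hx⟩)]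
        rfl), hd.comp hf (hg.mono hi) hG (Nat.zero_le _), hφ.2.2.2 hG,
      hd.mono hg hi hGi (Nat.zero_le _), hψ.2.2.2 (good_of_le C hGi hi hg.le), one_mul]
  inv_mem := by
    intro P φ hφ
    obtain ⟨ψ, hψ, hl⟩ := F.inv_mem hφ.1
    refine ⟨ψ, ⟨hψ, ?_, ?_, fun hG => ?_⟩, hl⟩
    · rintro _ ⟨x, rfl⟩
      exact hφ.2.2.1 x
    · rintro ⟨_, x, rfl⟩
      rw [hl x]
      exact hφ.2.1 x.2
    · have hf := isMap_of_mem hφ.1
      have hg := isMap_of_mem hψ
      have hr : φ.range = img P (toFun' φ) := hf.range_eq fun x => (toFun'_apply φ x).symm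
      have hGP : Good C P := good_of_img C hf (hr ▸ hG)
      have h1 : d P (toFun' ψ ∘ toFun' φ) = 1 := by
        rw [hd.congr (hf.comp hg fun x hx => by rw [toFun'_apply_mem φ hx]; exact ⟨_, rfl⟩)
          hGP (Nat.zero_le _) (f' := fun y => (1 : Ω) * y * 1⁻¹) (fun x hx => by
            show toFun' ψ (toFun' φ x) = _
            rw [toFun'_apply_mem φ hx, toFun'_apply_mem ψ ⟨⟨x, hx⟩, rfl⟩, hl ⟨x, hx⟩]
            simp), hd.conj hf.le S.one_mem hGP (Nat.zero_le _), μ_one C]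
      rwa [hd.comp hf (hr ▸ hg) hGP (Nat.zero_le _), hφ.2.2.2 hGP, mul_one, ← hr] at h1

variable {hd : IsDegree C 0 d}

theorem isMap_system_iff {P : Subgroup Ω} {f : Ω → Ω} :
    IsMap (system C d hd) P f ↔
      IsMap F P f ∧ P ≤ T ∧ (∀ x ∈ P, f x ∈ T) ∧ (Good C P → d P f = 1) := by
  constructor
  · rintro ⟨φ, ⟨hφ, hP, hv, hdeg⟩, e⟩
    refine ⟨⟨φ, hφ, e⟩, hP, fun x hx => e ⟨x, hx⟩ ▸ hv _, fun hG => ?_⟩
    rw [← hdeg hG]
    exact hd.congr ⟨φ, hφ, e⟩ hG (Nat.zero_le _) fun x hx =>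
      (e ⟨x, hx⟩).symm.trans (toFun'_apply_mem φ hx).symm
  · rintro ⟨⟨φ, hφ, e⟩, hP, hv, hdeg⟩
    refine ⟨φ, ⟨hφ, hP, fun x => (e x).symm ▸ hv x x.2, fun hG => ?_⟩, e⟩
    rw [← hdeg hG]
    exact hd.congr (isMap_of_mem hφ) hG (Nat.zero_le _) fun x hx =>
      (toFun'_apply_mem φ hx).trans (e ⟨x, hx⟩)

theorem exists_centralizer (hS : IsPGroup p S) (hF : F.IsSaturated p) {Q : Subgroup Ω}
    (hrec : F.IsReceptive Q) (hQ : ¬ Good C Q) : ∃ c ∈ centralizerIn S Q, C.μ c ≠ 1 := by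
  have hex : ∃ U, F.IsConj Q U ∧ ∃ c ∈ centralizerIn S U, C.μ c ≠ 1 := by
    by_contra h
    exact hQ ⟨hrec.1, fun U hU c hc => by_contra fun hne => h ⟨U, hU, c, hc, hne⟩⟩
  obtain ⟨U, hU, c, hc, hne⟩ := hex
  obtain ⟨f, hf, hi⟩ := isConj_iff.mp (isConj_symm hU)
  obtain ⟨g, hg, hge⟩ := receptive_extend hrec hf hi
  have hce := centralizerIn_le_extSub U f hc
  refine ⟨g c, ?_, by rwa [C.stable hg c hce]⟩
  have h := hg.mem_centralizerIn (le_extSub hf) hce hc
  rwa [img_congr hge, hi] at h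

include C in
theorem exists_pow_value {a : A} (ha : a ≠ 1) (b : A) : ∃ i : ℕ, a ^ i = b :=
  mem_powers_of_prime_card C.card ha

theorem system_saturated (hS : IsPGroup p S) (hF : F.IsSaturated p) :
    (system C d hd).IsSaturated p := by
  intro P hP
  have hPS := hP.trans C.le
  haveI := finite_of_le C.le
  haveI := finite_value C
  obtain ⟨Q, hPQ, hQ⟩ := exists_fullyNormalized (F := F) hPS
  obtain ⟨f, hf, hi⟩ := isConj_iff.mp hPQ
  -- correct the degree by an element of `S`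
  obtain ⟨x, hx, hxv⟩ := C.surj ((d P f)⁻¹)
  set f' := (fun y => x * y * x⁻¹) ∘ f
  have hf' : IsMap F P f' := hf.comp (isMap_conj le_rfl hx) fun y hy => hf.mem_S hy
  have hf'T : ∀ y ∈ P, f' y ∈ T := fun y hy => (mem_T_iff C hf' hy).mpr (hP hy)
  have hf'E : IsMap (system C d hd) P f' := by
    refine (isMap_system_iff C).mpr ⟨hf', hP, hf'T, fun hG => ?_⟩
    rw [hd.comp hf (isMap_conj hf.img_le hx) hG (Nat.zero_le _),
      hd.conj hf.img_le hx (good_img C hG hf) (Nat.zero_le _), hxv, inv_mul_cancel]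
  set Q' := img P f'
  have hQ'T : Q' ≤ T := IsMap.img_le_iff.mpr hf'T
  have hQ'S : Q' ≤ S := hQ'T.trans C.le
  haveI := finite_of_le hQ'S
  haveI : Finite (MulAut Q') := Finite.of_injective (fun f : MulAut Q' => (f : Q' → Q'))
    DFunLike.coe_injective
  have hQ'n : F.IsFullyNormalized Q' := by
    refine ⟨hQ'S, fun R hR => (hQ.2 R ?_).trans ?_⟩
    · exact isConj_trans (isConj_trans (isConj_symm hPQ) (isConj_iff.mpr ⟨f', hf', rfl⟩)) hR
    · refine card_le_of_isMap (isMap_conj (F := F) le_rfl hx) inf_le_left inf_le_left fun t ht => ?_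
      have h1 := (isMap_conj (F := F) le_rfl hx).mem_normalizerIn hQ.1 ht.1 ht.2
      have h2 : img Q (fun y => x * y * x⁻¹) = Q' := by
        show _ = img P ((fun y => x * y * x⁻¹) ∘ f)
        rw [img_comp hf (isMap_conj hf.img_le hx), hi]
      rwa [h2] at h1
  obtain ⟨-, ⟨-, R, hR⟩, hrec⟩ := fullyNormalized_props hS hF hQ'n
  refine ⟨Q', isConj_iff.mpr ⟨f', hf'E, rfl⟩, ⟨hQ'T, ?_⟩, ?_⟩
  · -- fully automized
    set E := system C d hd
    have hle : E.autGroup Q' ≤ F.autGroup Q' := fun α hα => (isMap_autFun hQ'S).mp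
      ((isMap_system_iff C).mp ((isMap_autFun hQ'T).mpr hα)).1
    have hmemE : ∀ α ∈ F.autGroup Q', (Good C Q' → deg C Q' α = 1) → α ∈ E.autGroup Q' :=
      fun α hα h => (isMap_autFun hQ'T).mp ((isMap_system_iff C).mpr
        ⟨(isMap_autFun hQ'S).mpr hα, hQ'T, fun y hy => hQ'T (autFun_mem α hy),
          fun hG => (hd.aut hα hG (Nat.zero_le _)).trans (h hG)⟩)
    have hdegE : ∀ α ∈ E.autGroup Q', Good C Q' → deg C Q' α = 1 := fun α hα hG =>
      (hd.aut (hle hα) hG (Nat.zero_le _)).symm.trans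
        (((isMap_system_iff C).mp ((isMap_autFun hQ'T).mpr hα)).2.2.2 hG)
    have hn : ((E.autGroup Q').subgroupOf (F.autGroup Q')).Normal := ⟨fun n hn g => by
      refine hmemE _ (g * n * g⁻¹).2 fun hG => ?_
      obtain ⟨χ, -, e⟩ := deg_spec C hS hF hG
      have h1 : χ n = 1 := (e n).symm.trans (hdegE _ hn hG)
      show deg C Q' ((g * n * g⁻¹ : F.autGroup Q') : MulAut Q') = 1
      rw [e, map_mul, map_mul, map_inv, h1, mul_one, mul_inv_cancel]⟩
    set ι := Subgroup.inclusion hle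
    set RE : Subgroup (E.autGroup Q') := (R : Subgroup (F.autGroup Q')).comap ι
    have hREeq : RE = (autInducedBy T Q').subgroupOf (E.autGroup Q') := by
      refine le_antisymm (fun α hα => ?_) fun α hα => ?_
      · have h1 : ι α ∈ (autInducedBy S Q').subgroupOf (F.autGroup Q') := hR ▸ hα
        obtain ⟨t, ht, et⟩ := mem_autInducedBy.mp h1
        have et' : ∀ y ∈ Q', autFun (α : MulAut Q') y = t * y * t⁻¹ := fun y hy => by
          rw [autFun_apply_mem _ hy]; exact et ⟨y, hy⟩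
        by_cases hG : Good C Q'
        · refine mem_autInducedBy.mpr ⟨t, (C.ker t ht).mp ?_, et⟩
          rw [← deg_conjAut C hS hF hG ht et', hdegE _ α.2 hG]
        · obtain ⟨c, hc, hcne⟩ := exists_centralizer C hS hF hrec hG
          obtain ⟨i, hic⟩ := exists_pow_value C hcne (C.μ t)⁻¹
          have hci := Subgroup.pow_mem _ hc i
          refine mem_autInducedBy.mpr ⟨t * c ^ i, (C.ker _ (S.mul_mem ht hci.1)).mp ?_, fun y => ?_⟩
          · rw [C.mul _ ht _ hci.1, μ_pow C hc.1, hic, mul_inv_cancel]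
          · show ((ι α : MulAut Q') y : Ω) = _
            rw [show ((ι α : MulAut Q') y : Ω) = _ from et y, mul_inv_rev, show t * c ^ i * (y : Ω) * ((c ^ i)⁻¹ * t⁻¹) =
              t * (c ^ i * (y : Ω) * (c ^ i)⁻¹) * t⁻¹ by group,
              (Fusion.mem_centralizerIn.mp hci).2 y y.2]
      · show ι α ∈ (R : Subgroup (F.autGroup Q'))
        rw [hR]
        obtain ⟨t, ht, et⟩ := mem_autInducedBy.mp hα
        exact mem_autInducedBy.mpr ⟨t, C.le ht, et⟩
    refine ⟨⟨RE, R.2.comap_of_injective ι (Subgroup.inclusion_injective hle), fun {V} hV hREV => ?_⟩,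
      hREeq⟩
    obtain ⟨V', hV'⟩ := (hV.map ι).exists_le_sylow
    obtain ⟨g, hg⟩ := MulAction.exists_smul_eq (F.autGroup Q') V' R
    have hVR : ∀ v : V, g * ι v * g⁻¹ ∈ (R : Subgroup (F.autGroup Q')) ∧
        g * ι v * g⁻¹ ∈ (E.autGroup Q').subgroupOf (F.autGroup Q') := fun v =>
      ⟨hg ▸ ⟨ι v, hV' ⟨v, v.2, rfl⟩, rfl⟩, hn.conj_mem _ (v : E.autGroup Q').2 g⟩
    refine (Subgroup.eq_of_le_of_card_ge hREV ?_).symm
    refine Nat.card_le_card_of_injective
      (fun v : V => (⟨⟨_, (hVR v).2⟩, (hVR v).1⟩ : RE)) fun v v' h => ?_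
    have h1 : ((g * ι v * g⁻¹ : F.autGroup Q') : MulAut Q') =
        ((g * ι v' * g⁻¹ : F.autGroup Q') : MulAut Q') :=
      congrArg (fun z : RE => ((z : E.autGroup Q') : MulAut Q')) h
    exact Subtype.ext (Subgroup.inclusion_injective hle
      (mul_left_cancel (mul_right_cancel (Subtype.ext h1))))
  · -- receptive
    refine receptive_of_extend hQ'T fun R₀ g hg hgi => ?_
    obtain ⟨hgF, hR₀T, hgT, hgd⟩ := (isMap_system_iff C).mp hg
    obtain ⟨h, hh, hhe⟩ := receptive_extend hrec hgF hgi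
    set D := extSub T R₀ g
    have hD : D ≤ extSub S R₀ g := fun t ht => by
      obtain ⟨htT, htn, s, hs, es⟩ := mem_extSub.mp ht
      exact mem_extSub.mpr ⟨C.le htT, htn, s, C.le hs, es⟩
    have hDT : D ≤ T := fun t ht => (mem_extSub.mp ht).1
    have hhD := hh.mono hD
    have hRD : R₀ ≤ D := le_extSub hg
    by_cases hGD : Good C D
    swap
    · exact ⟨h, (isMap_system_iff C).mpr ⟨hhD, hDT,
        fun y hy => (mem_T_iff C hhD hy).mpr (hDT hy), fun hc => absurd hc hGD⟩, hhe⟩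
    by_cases hG : Good C R₀
    · refine ⟨h, (isMap_system_iff C).mpr ⟨hhD, hDT,
        fun y hy => (mem_T_iff C hhD hy).mpr (hDT hy), fun _ => ?_⟩, hhe⟩
      rw [← hd.mono hhD hRD hG (Nat.zero_le _),
        hd.congr (hhD.mono hRD) hG (Nat.zero_le _) hhe]
      exact hgd hG
    · obtain ⟨c, hc, hcne⟩ := exists_centralizer C hS hF hrec
        (fun hGQ => hG (good_of_img C hgF (hgi.symm ▸ hGQ)))
      obtain ⟨i, hic⟩ := exists_pow_value C hcne (d D h)⁻¹
      have hci := Subgroup.pow_mem _ hc i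
      set h' := (fun y => c ^ i * y * (c ^ i)⁻¹) ∘ h
      have hh' : IsMap F D h' := hhD.comp (isMap_conj le_rfl hci.1) fun y hy => hhD.mem_S hy
      refine ⟨h', (isMap_system_iff C).mpr ⟨hh', hDT,
        fun y hy => (mem_T_iff C hh' hy).mpr (hDT hy), fun _ => ?_⟩, fun y hy => ?_⟩
      · rw [hd.comp hhD (isMap_conj hhD.img_le hci.1) hGD (Nat.zero_le _),
          hd.conj hhD.img_le hci.1 (good_img C hGD hhD) (Nat.zero_le _), μ_pow C hc.1, hic,
          inv_mul_cancel]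
      · show c ^ i * h y * (c ^ i)⁻¹ = g y
        rw [hhe y hy]
        exact (Fusion.mem_centralizerIn.mp hci).2 _ (hgi ▸ IsMap.apply_mem_img hy)

theorem system_index (hS : IsPGroup p S) (hF : F.IsSaturated p)
    (hT : F.hyperfocalSubgroup p ≤ T) : (system C d hd).HasPPowerIndexIn F p := by
  refine ⟨fun P φ hφ => hφ.1, hT, fun P hP => ?_⟩
  rw [Subgroup.map_le_iff_le_comap]
  refine (Subgroup.closure_le _).mpr fun a ha => ?_
  have hcop : (orderOf (a : MulAut P)).Coprime p := by rw [Subgroup.orderOf_coe]; exact ha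
  refine (isMap_autFun hP).mp ((isMap_system_iff C).mpr ⟨(isMap_autFun (hP.trans C.le)).mpr a.2, hP,
    fun y hy => hP (autFun_mem _ hy), fun hG => ?_⟩)
  show d P (autFun (a : MulAut P)) = 1
  rw [hd.aut a.2 hG (Nat.zero_le _), deg_coprime C hS hF hG a.2 hcop]

end Cfsg.Lib.Fusion.PDeg

namespace Cfsg.Lib.Fusion.PDeg

open Cfsg Cfsg.FusionSystem Cfsg.Lib.Fusion

universe u

variable {Ω : Type u} [Group Ω] {p : ℕ}

/-- A subgroup of index `p` containing the hyperfocal subgroup carries a subsystem. -/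
theorem exists_index_prime [Fact p.Prime] {S : Subgroup Ω} [Finite S] (hS : IsPGroup p S)
    {F : FusionSystem S} (hF : F.IsSaturated p) {T : Subgroup Ω} (hTS : T ≤ S)
    (hidx : (T.subgroupOf S).index = p) (hT : F.hyperfocalSubgroup p ≤ T) :
    ∃ E : FusionSystem T, E.IsSaturated p ∧ E.HasPPowerIndexIn F p := by
  classical
  set N := T.subgroupOf S
  haveI : N.Normal := by
    refine Subgroup.normal_of_index_eq_minFac_card ?_
    obtain ⟨m, hm⟩ := IsPGroup.iff_card.mp hS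
    have hm0 : m ≠ 0 := fun h0 => by
      have := N.index_dvd_card
      rw [hidx, hm, h0, pow_zero, Nat.dvd_one] at this
      exact (Fact.out : p.Prime).ne_one this
    rw [hidx, hm, Nat.pow_minFac hm0, (Fact.out : p.Prime).minFac_eq]
  have hcard : Nat.card (S ⧸ N) = p := (Subgroup.index_eq_card N).symm.trans hidx
  have hcyc : IsCyclic (S ⧸ N) := isCyclic_of_prime_card hcard
  letI : CommGroup (S ⧸ N) :=
    { (inferInstance : Group (S ⧸ N)) with mul_comm := fun a b => IsCyclic.commGroup.mul_comm a b }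
  let μ : Ω → S ⧸ N := fun x => if h : x ∈ S then QuotientGroup.mk ⟨x, h⟩ else 1
  have hμ : ∀ (x : Ω) (h : x ∈ S), μ x = QuotientGroup.mk ⟨x, h⟩ := fun x h => dif_pos h
  let C : Ctx F T p (S ⧸ N) :=
    { μ := μ
      le := hTS
      mul := fun x hx y hy => by
        rw [hμ x hx, hμ y hy, hμ _ (S.mul_mem hx hy)]
        rfl
      ker := fun x hx => by
        rw [hμ x hx, QuotientGroup.eq_one_iff, Subgroup.mem_subgroupOf]
      stable := fun {P f} hf x hx => by
        obtain ⟨s, hs, h⟩ := innerMod_hyperfocal hS hF hf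
        set s' : S := ⟨s, hs⟩
        set x' : S := ⟨x, hf.le hx⟩
        set y' : S := ⟨f x, hf.mem_S hx⟩
        have h1 : (QuotientGroup.mk ((s' * x' * s'⁻¹)⁻¹ * y') : S ⧸ N) = 1 :=
          (QuotientGroup.eq_one_iff _).mpr (hT (h x hx))
        rw [QuotientGroup.mk_mul, QuotientGroup.mk_inv, inv_mul_eq_one, QuotientGroup.mk_mul,
          QuotientGroup.mk_mul, QuotientGroup.mk_inv, mul_comm (QuotientGroup.mk s'),
          mul_inv_cancel_right] at h1
        rw [hμ _ (hf.le hx), hμ _ (hf.mem_S hx)]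
        exact h1.symm
      surj := fun a => by
        obtain ⟨x, rfl⟩ := QuotientGroup.mk_surjective a
        exact ⟨x, x.2, hμ x x.2⟩
      card := hcard }
  obtain ⟨d, hd⟩ := exists_degree C hS hF
  exact ⟨system C d hd, system_saturated C hS hF, system_index C hS hF hT⟩

/-- Existence in general. -/
theorem exists_system [Fact p.Prime] :
    ∀ (n : ℕ) {S : Subgroup Ω} [Finite S], Nat.card S = n → IsPGroup p S →
      ∀ {F : FusionSystem S}, F.IsSaturated p → ∀ {T : Subgroup Ω}, T ≤ S →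
      F.hyperfocalSubgroup p ≤ T →
      ∃ E : FusionSystem T, E.IsSaturated p ∧ E.HasPPowerIndexIn F p := by
  intro n
  induction n using Nat.strong_induction_on with
  | _ n ih =>
  intro S _ hn hS F hF T hTS hT
  rcases eq_or_ne T S with rfl | hne
  · exact ⟨F, hF, PPower.index_self F p⟩
  haveI := finite_of_le hTS
  obtain ⟨m, hm⟩ := IsPGroup.iff_card.mp hS
  obtain ⟨k, hk⟩ :=
    IsPGroup.iff_card.mp (hS.of_injective _ (Subgroup.inclusion_injective hTS))
  have hkm : k < m := by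
    refine (Nat.pow_lt_pow_iff_right (Fact.out : p.Prime).one_lt).mp ?_
    rw [← hk, ← hm]
    exact lt_of_le_of_ne (Subgroup.card_le_of_le hTS)
      fun h => hne (Subgroup.eq_of_le_of_card_ge hTS h.ge)
  obtain ⟨K, hK, hTK⟩ := Sylow.exists_subgroup_card_pow_prime_le (G := S) (p := p) (n := k)
    (m := m - 1) (hm.symm ▸ pow_dvd_pow p (Nat.sub_le m 1)) (T.subgroupOf S)
    ((Nat.card_congr (Subgroup.subgroupOfEquivOfLe hTS).toEquiv).trans hk) (by omega)
  set T₁ := K.map S.subtype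
  have hT₁S : T₁ ≤ S := Subgroup.map_subtype_le _
  have hTT₁ : T ≤ T₁ := fun x hx => ⟨⟨x, hTS hx⟩, hTK hx, rfl⟩
  have hidx : (T₁.subgroupOf S).index = p := by
    rw [show T₁.subgroupOf S = K from Subgroup.comap_map_eq_self_of_injective S.subtype_injective K]
    have h := K.card_mul_index
    rw [hK, hm, show m = m - 1 + 1 from (Nat.sub_add_cancel (by omega)).symm,
      pow_succ, Nat.add_sub_cancel] at h
    exact Nat.eq_of_mul_eq_mul_left (pow_pos (Fact.out : p.Prime).pos _) h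
  obtain ⟨E₁, hE₁, hi₁⟩ := exists_index_prime hS hF hT₁S hidx (hT.trans hTT₁)
  haveI := finite_of_le hT₁S
  have hc : Nat.card T₁ < n := by
    rw [← hn, Subgroup.card_map_of_injective S.subtype_injective, hK, hm]
    exact Nat.pow_lt_pow_right (Fact.out : p.Prime).one_lt (by omega)
  obtain ⟨E, hE, hi⟩ := ih _ hc rfl (hS.of_injective _ (Subgroup.inclusion_injective hT₁S)) hE₁
    hTT₁ (by rw [PPower.hyperfocal_eq hS hT₁S hi₁]; exact hT)
  exact ⟨E, hE, PPower.index_trans hi₁ hTT₁ hi hT⟩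

end Cfsg.Lib.Fusion.PDeg
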