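import Cfsg.Agent.Fusion.Hyperfocal
import Cfsg.Agent.Fusion.CharAut
import Cfsg.Agent.Fusion.Invariant
import Cfsg.Agent.Transfer.Basic

/-!
The degree of an automorphism with values in the quotient of `S` by a subgroup of index `p` that
contains the hyperfocal subgroup.
-/

set_option autoImplicit false
set_option linter.unusedSectionVars false
set_option linter.style.haveILetI false

namespace Cfsg.Lib.Fusion.PDeg

open Cfsg Cfsg.FusionSystem Cfsg.Lib.Fusion

universe u v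

variable {Ω : Type u} [Group Ω] {S T : Subgroup Ω} {F : FusionSystem S} {p : ℕ}
  {A : Type v} [CommGroup A]

/-- A stable homomorphism on `S` with kernel `T` onto a group of order `p`. -/
structure Ctx (F : FusionSystem S) (T : Subgroup Ω) (p : ℕ) (A : Type v) [CommGroup A] where
  μ : Ω → A
  le : T ≤ S
  mul : ∀ x ∈ S, ∀ y ∈ S, μ (x * y) = μ x * μ y
  ker : ∀ x ∈ S, μ x = 1 ↔ x ∈ T
  stable : ∀ {P : Subgroup Ω} {f : Ω → Ω}, IsMap F P f → ∀ x ∈ P, μ (f x) = μ x
  surj : ∀ a : A, ∃ x ∈ S, μ x = a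
  card : Nat.card A = p

variable (C : Ctx F T p A)

theorem μ_one : C.μ 1 = 1 := (C.ker 1 S.one_mem).mpr T.one_mem

theorem μ_inv {x : Ω} (hx : x ∈ S) : C.μ x⁻¹ = (C.μ x)⁻¹ :=
  eq_inv_of_mul_eq_one_left (by rw [← C.mul _ (S.inv_mem hx) _ hx, inv_mul_cancel, μ_one C])

theorem μ_pow {x : Ω} (hx : x ∈ S) (n : ℕ) : C.μ (x ^ n) = C.μ x ^ n := by
  induction n with
  | zero => rw [pow_zero, pow_zero, μ_one C]
  | succ n ih => rw [pow_succ, pow_succ, C.mul _ (S.pow_mem hx n) _ hx, ih]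

theorem μ_eq_of {x y : Ω} (hx : x ∈ S) (hy : y ∈ S) (h : C.μ (x⁻¹ * y) = 1) : C.μ x = C.μ y := by
  rw [C.mul _ (S.inv_mem hx) _ hy, μ_inv C hx, inv_mul_eq_one] at h
  exact h

include C in
theorem finite_value [Fact p.Prime] : Finite A :=
  Nat.finite_of_card_ne_zero (C.card.symm ▸ (Fact.out : p.Prime).ne_zero)

include C in
theorem value_pow (a : A) : a ^ p = 1 := by
  rw [← C.card]
  exact pow_card_eq_one'

/-- All conjugates have their centralizers in the kernel. -/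
def Good (P : Subgroup Ω) : Prop :=
  P ≤ S ∧ ∀ U, F.IsConj P U → ∀ c ∈ centralizerIn S U, C.μ c = 1

theorem good_conj {P U : Subgroup Ω} (h : Good C P) (hU : F.IsConj P U) : Good C U :=
  ⟨(isConj_le hU).2, fun V hV => h.2 V (isConj_trans hU hV)⟩

theorem good_img {P : Subgroup Ω} (h : Good C P) {f : Ω → Ω} (hf : IsMap F P f) :
    Good C (img P f) := good_conj C h (isConj_iff.mpr ⟨f, hf, rfl⟩)

theorem good_of_img {P : Subgroup Ω} {f : Ω → Ω} (hf : IsMap F P f) (h : Good C (img P f)) :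
    Good C P := good_conj C h (isConj_symm (isConj_iff.mpr ⟨f, hf, rfl⟩))

theorem good_of_le {P R : Subgroup Ω} (h : Good C P) (hPR : P ≤ R) (hR : R ≤ S) : Good C R := by
  refine ⟨hR, fun U hU c hc => ?_⟩
  obtain ⟨f, hf, rfl⟩ := isConj_iff.mp hU
  refine h.2 (img P f) (isConj_iff.mpr ⟨f, hf.mono hPR, rfl⟩) c ⟨hc.1, ?_⟩
  exact Subgroup.centralizer_le (fun x hx => img_mono hPR f hx) hc.2

/-- A map carrying the automorphism to conjugation by an element of value `a`. -/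
def Wit {P : Subgroup Ω} (u : MulAut P) (a : A) : Prop :=
  ∃ w x, IsMap F P w ∧ x ∈ S ∧ (∀ y ∈ P, w (autFun u y) = x * w y * x⁻¹) ∧ C.μ x = a

variable [Finite S] [Fact p.Prime]

theorem wit_unique (hS : IsPGroup p S) (hF : F.IsSaturated p) {P : Subgroup Ω} (hP : Good C P)
    {u : MulAut P} {a a' : A} (h : Wit C u a) (h' : Wit C u a') : a = a' := by
  obtain ⟨w, x, hw, hx, e, rfl⟩ := h
  obtain ⟨w', x', hw', hx', e', rfl⟩ := h'
  haveI := finite_of_le hw.le
  haveI := finite_of_le hw.img_le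
  haveI := finite_of_le hw'.img_le
  obtain ⟨Q, hPQ, hQ⟩ := exists_fullyNormalized (F := F) hw.le
  obtain ⟨-, hfa, hrec⟩ := fullyNormalized_props hS hF hQ
  obtain ⟨r, hr, hri⟩ := isConj_iff.mp
    (isConj_trans (isConj_symm (isConj_iff.mpr ⟨w', hw', rfl⟩)) hPQ)
  obtain ⟨-, -, g, hg, hgi, -, -⟩ := exists_map_normalizer hS hfa hrec hr hri
  obtain ⟨k, hk, -, hkl, -⟩ := hw.exists_inv
  have hgU : IsMap F (img P w') g := hg.mono (le_normalizerIn hw'.img_le)
  have hkP : ∀ y ∈ img P w, k y ∈ P := fun y hy => by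
    obtain ⟨z, hz, rfl⟩ := hw.mem_img.mp hy
    rwa [hkl z hz]
  set v := g ∘ (w' ∘ k)
  have hv : IsMap F (img P w) v :=
    (hk.comp hw' hkP).comp hgU fun y hy => IsMap.apply_mem_img (hkP y hy)
  have hve : ∀ z ∈ P, v (w z) = g (w' z) := fun z hz => by
    show g (w' (k (w z))) = _
    rw [hkl z hz]
  have hvi : img (img P w) v = Q := by
    rw [← hgi]
    refine le_antisymm (IsMap.img_le_iff.mpr fun y hy => ?_) (IsMap.img_le_iff.mpr fun y hy => ?_)
    · obtain ⟨z, hz, rfl⟩ := hw.mem_img.mp hy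
      rw [hve z hz]
      exact IsMap.apply_mem_img (IsMap.apply_mem_img hz)
    · obtain ⟨z, hz, rfl⟩ := hw'.mem_img.mp hy
      rw [← hve z hz]
      exact IsMap.apply_mem_img (IsMap.apply_mem_img hz)
  have hxn : x ∈ Subgroup.normalizer (img P w : Set Ω) :=
    mem_normalizer_of_maps_finite fun y hy => by
      obtain ⟨z, hz, rfl⟩ := hw.mem_img.mp hy
      rw [← e z hz]
      exact IsMap.apply_mem_img (autFun_mem u hz)
  have hxn' : x' ∈ normalizerIn S (img P w') := ⟨hx', mem_normalizer_of_maps_finite fun y hy => by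
    obtain ⟨z, hz, rfl⟩ := hw'.mem_img.mp hy
    rw [← e' z hz]
    exact IsMap.apply_mem_img (autFun_mem u hz)⟩
  have hvx : ∀ y ∈ img P w, v (x * y * x⁻¹) = g x' * v y * (g x')⁻¹ := fun y hy => by
    obtain ⟨z, hz, rfl⟩ := hw.mem_img.mp hy
    rw [← e z hz, hve _ (autFun_mem u hz), hve z hz, e' z hz,
      hg.map_conj hxn' (le_normalizerIn hw'.img_le (IsMap.apply_mem_img hz))]
  obtain ⟨v', hv', hv'e⟩ := receptive_extend hrec hv hvi
  have hxext : x ∈ extSub S (img P w) v :=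
    mem_extSub.mpr ⟨hx, hxn, g x', hg.mem_S hxn', hvx⟩
  have hc : (v' x)⁻¹ * g x' ∈ centralizerIn S Q := Fusion.mem_centralizerIn.mpr
    ⟨S.mul_mem (S.inv_mem (hv'.mem_S hxext)) (hg.mem_S hxn'), fun q hq => by
      obtain ⟨y, hy, rfl⟩ := hv.mem_img.mp (hvi.symm ▸ hq)
      have h1 := hv'.map_conj hxext (le_extSub hv hy)
      rw [hv'e y hy, hv'e _ (conj_mem_of_mem_normalizer hxn hy), hvx y hy] at h1
      calc (v' x)⁻¹ * g x' * v y * ((v' x)⁻¹ * g x')⁻¹
          = (v' x)⁻¹ * (g x' * v y * (g x')⁻¹) * v' x := by group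
        _ = v y := by rw [h1]; group⟩
  have h1 := μ_eq_of C (hv'.mem_S hxext) (hg.mem_S hxn') (hP.2 Q hPQ _ hc)
  rw [C.stable hv' x hxext, C.stable hg x' hxn'] at h1
  exact h1

theorem wit_mono {P R : Subgroup Ω} (hR : R ≤ P) {u : MulAut P} {u' : MulAut R}
    (e : ∀ y ∈ R, autFun u y = autFun u' y) {a : A} (h : Wit C u a) : Wit C u' a := by
  obtain ⟨w, x, hw, hx, he, ha⟩ := h
  exact ⟨w, x, hw.mono hR, hx, fun y hy => by rw [← e y hy, he y (hR hy)], ha⟩

theorem wit_congr {P Q : Subgroup Ω} {f : Ω → Ω} (hf : IsMap F P f) (hi : img P f = Q)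
    {u : MulAut P} {a : A} (h : Wit C u a) : Wit C (MulAut.congr (hf.equiv hi) u) a := by
  obtain ⟨w, x, hw, hx, he, ha⟩ := h
  obtain ⟨k, hk, -, hkl, -⟩ := hf.exists_inv
  rw [hi] at hk
  have hkP : ∀ y ∈ Q, k y ∈ P := fun y hy => by
    obtain ⟨z, hz, rfl⟩ := hf.mem_img.mp (hi.symm ▸ hy)
    rwa [hkl z hz]
  refine ⟨w ∘ k, x, hk.comp hw hkP, hx, fun y hy => ?_, ha⟩
  obtain ⟨z, hz, rfl⟩ := hf.mem_img.mp (hi.symm ▸ hy)
  show w (k (autFun _ (f z))) = x * w (k (f z)) * x⁻¹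
  rw [congr_equiv_spec hf hi u hz, hkl _ (autFun_mem u hz), hkl z hz, he z hz]

theorem wit_conjAut {P : Subgroup Ω} (hP : P ≤ S) {x : Ω} (hx : x ∈ S) {u : MulAut P}
    (e : ∀ y ∈ P, autFun u y = x * y * x⁻¹) : Wit C u (C.μ x) :=
  ⟨id, x, isMap_id hP, hx, e, rfl⟩

theorem exists_wit (hS : IsPGroup p S) (hF : F.IsSaturated p) {P : Subgroup Ω} (hP : P ≤ S)
    {u : MulAut P} (hu : u ∈ F.autGroup P) (hk : ∃ k : ℕ, orderOf u = p ^ k) :
    ∃ a, Wit C u a := by
  obtain ⟨Q, hPQ, hQ⟩ := exists_fullyNormalized (F := F) hP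
  obtain ⟨f, hf, hi⟩ := isConj_iff.mp hPQ
  obtain ⟨-, hfa, -⟩ := fullyNormalized_props hS hF hQ
  haveI := finite_of_le hP
  haveI := finite_of_le hQ.1
  obtain ⟨k, hk⟩ := hk
  set u' : MulAut Q := MulAut.congr (hf.equiv hi) u
  have hu'p : IsPGroup p (Subgroup.zpowers u') := by
    refine IsPGroup.of_card (n := k) ?_
    rw [Nat.card_zpowers]
    exact (orderOf_injective (MulAut.congr (hf.equiv hi)).toMonoidHom
      (MulAut.congr (hf.equiv hi)).injective u).trans hk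
  obtain ⟨χ, hχ, hχu⟩ := exists_conj_into_autS hfa hu'p
    (Subgroup.zpowers_le.mpr (congr_mem_autGroup hf hi hu))
  obtain ⟨x, hx, ex⟩ := mem_autInducedBy.mp (hχu u' (Subgroup.mem_zpowers u'))
  have hfQ : ∀ y ∈ P, f y ∈ Q := fun y hy => hi ▸ IsMap.apply_mem_img hy
  refine ⟨C.μ x, autFun χ ∘ f, x, hf.comp ((isMap_autFun hQ.1).mpr hχ) hfQ, hx, fun y hy => ?_,
    rfl⟩
  show autFun χ (f (autFun u y)) = x * autFun χ (f y) * x⁻¹
  have := ex ⟨_, autFun_mem χ (hfQ y hy)⟩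
  rw [← autFun_apply (χ * u' * χ⁻¹), ← autFun_mul _ χ (hfQ y hy), inv_mul_cancel_right,
    autFun_mul _ _ (hfQ y hy), congr_equiv_spec hf hi u hy] at this
  exact this

/-- The degree on an automizer. -/
structure IsDeg (P : Subgroup Ω) (χ : F.autGroup P →* A) : Prop where
  wit : ∀ (u : F.autGroup P) (a : A), (∃ k : ℕ, orderOf u = p ^ k) →
    Wit C (u : MulAut P) a → χ u = a

include C in
theorem hom_eq_one_of_coprime {G : Type*} [Group G] (χ : G →* A) {g : G}
    (h : (orderOf g).Coprime p) : χ g = 1 := by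
  refine orderOf_eq_one_iff.mp (Nat.eq_one_of_dvd_coprimes h (orderOf_map_dvd χ g)
    (orderOf_dvd_of_pow_eq_one (value_pow C _)))

include C in
theorem exists_deg (hS : IsPGroup p S) (hF : F.IsSaturated p) {P : Subgroup Ω} (hP : Good C P) :
    ∃ χ : F.autGroup P →* A, IsDeg C P χ := by
  obtain ⟨Q, hPQ, hQ⟩ := exists_fullyNormalized (F := F) hP.1
  have hQg : Good C Q := good_conj C hP hPQ
  obtain ⟨f, hf, hi⟩ := isConj_iff.mp hPQ
  obtain ⟨-, R, hR⟩ := (fullyNormalized_props hS hF hQ).2.1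
  haveI := finite_of_le hP.1
  haveI := finite_of_le hQ.1
  haveI := finite_value C
  haveI : Finite (MulAut Q) := Finite.of_injective (fun f : MulAut Q => (f : Q → Q))
    DFunLike.coe_injective
  have hind : ∀ r : (R : Subgroup (F.autGroup Q)),
      ∃ x ∈ S, ∀ y ∈ Q, autFun ((r : F.autGroup Q) : MulAut Q) y = x * y * x⁻¹ := fun r => by
    have hr : (r : F.autGroup Q) ∈ (autInducedBy S Q).subgroupOf (F.autGroup Q) := hR ▸ r.2
    obtain ⟨x, hx, ex⟩ := mem_autInducedBy.mp hr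
    exact ⟨x, hx, fun y hy => by rw [autFun_apply_mem _ hy]; exact ex ⟨y, hy⟩⟩
  choose X hXS hX using hind
  have hXw : ∀ r : (R : Subgroup (F.autGroup Q)),
      Wit C ((r : F.autGroup Q) : MulAut Q) (C.μ (X r)) := fun r =>
    wit_conjAut C hQ.1 (hXS r) (hX r)
  let ν : (R : Subgroup (F.autGroup Q)) →* A := MonoidHom.mk' (fun r => C.μ (X r)) fun r r' => by
    rw [← C.mul _ (hXS r) _ (hXS r')]
    refine wit_unique C hS hF hQg (hXw (r * r')) (wit_conjAut C hQ.1 (S.mul_mem (hXS r) (hXS r'))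
      fun y hy => ?_)
    rw [Subgroup.coe_mul, Subgroup.coe_mul, autFun_mul _ _ hy, hX r' y hy, hX r _ (by
      rw [← hX r' y hy]; exact autFun_mem _ hy)]
    group
  set n := (R : Subgroup (F.autGroup Q)).index
  have htr : ∀ r : (R : Subgroup (F.autGroup Q)),
      MonoidHom.transfer ν (r : F.autGroup Q) = ν r ^ n := by
    intro r
    classical
    letI := (R : Subgroup (F.autGroup Q)).fintypeQuotientOfFiniteIndex
    haveI : Fintype (Quotient (MulAction.orbitRel (Subgroup.zpowers (r : F.autGroup Q))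
        (F.autGroup Q ⧸ (R : Subgroup (F.autGroup Q))))) := Fintype.ofFinite _
    rw [MonoidHom.transfer_eq_prod_quotient_orbitRel_zpowers_quot,
      show n = _ from Subgroup.index_eq_sum_minimalPeriod (R : Subgroup (F.autGroup Q))
        (r : F.autGroup Q), ← Finset.prod_pow_eq_pow_sum]
    refine Finset.prod_congr rfl fun q _ => ?_
    set g₀ : F.autGroup Q := q.out.out
    set k := Function.minimalPeriod (((r : F.autGroup Q)) • ·) q.out
    set h : (R : Subgroup (F.autGroup Q)) :=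
      ⟨g₀⁻¹ * (r : F.autGroup Q) ^ k * g₀, QuotientGroup.out_conj_pow_minimalPeriod_mem _ _ _⟩
    show C.μ (X h) = C.μ (X r) ^ k
    rw [← μ_pow C (hXS r)]
    refine wit_unique C hS hF hQg (hXw h)
      ⟨autFun (g₀ : MulAut Q), X r ^ k, (isMap_autFun hQ.1).mpr g₀.2, S.pow_mem (hXS r) k,
        fun y hy => ?_, rfl⟩
    rw [← autFun_mul _ _ hy]
    show autFun ((g₀ * (g₀⁻¹ * (r : F.autGroup Q) ^ k * g₀) : F.autGroup Q) : MulAut Q) y = _
    rw [show g₀ * (g₀⁻¹ * (r : F.autGroup Q) ^ k * g₀) = (r : F.autGroup Q) ^ k * g₀ by group,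
      Subgroup.coe_mul, autFun_mul _ _ hy, Subgroup.coe_pow]
    have hpow : ∀ (j : ℕ), ∀ z ∈ Q,
        autFun (((r : F.autGroup Q) : MulAut Q) ^ j) z = X r ^ j * z * (X r ^ j)⁻¹ := by
      intro j
      induction j with
      | zero => intro z hz; rw [pow_zero, autFun_one hz]; simp
      | succ j ih =>
        intro z hz
        rw [pow_succ', autFun_mul _ _ hz, hX r _ (autFun_mem _ hz), ih z hz, pow_succ']
        group
    exact hpow k _ (autFun_mem _ hy)
  have hn : (Nat.card A).Coprime n := by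
    rw [C.card]
    exact (Fact.out : p.Prime).coprime_iff_not_dvd.mpr R.not_dvd_index
  let e : A ≃* A := MulEquiv.ofBijective (powMonoidHom n) (powCoprime hn).bijective
  have hc : ∀ v ∈ F.autGroup P, MulAut.congr (hf.equiv hi) v ∈ F.autGroup Q := fun v hv =>
    congr_mem_autGroup hf hi hv
  let toQ : F.autGroup P →* F.autGroup Q :=
    ((MulAut.congr (hf.equiv hi)).toMonoidHom.comp (F.autGroup P).subtype).codRestrict _
      fun v => hc v v.2
  refine ⟨(e.symm.toMonoidHom.comp (MonoidHom.transfer ν)).comp toQ, ⟨fun u a hk hw => ?_⟩⟩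
  obtain ⟨k, hk⟩ := hk
  have hwQ : Wit C (toQ u : MulAut Q) a := wit_congr C hf hi hw
  have hp' : IsPGroup p (Subgroup.zpowers (toQ u)) := by
    refine IsPGroup.of_card (n := k) ?_
    rw [Nat.card_zpowers, ← hk]
    exact orderOf_injective toQ (fun v v' hvv => Subtype.ext
      ((MulAut.congr (hf.equiv hi)).injective (congrArg Subtype.val hvv))) u
  obtain ⟨V, hV⟩ := hp'.exists_le_sylow
  obtain ⟨g, hg⟩ := MulAction.exists_smul_eq (F.autGroup Q) V R
  have hgR : g * toQ u * g⁻¹ ∈ (R : Subgroup (F.autGroup Q)) :=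
    hg ▸ ⟨toQ u, hV (Subgroup.mem_zpowers _), rfl⟩
  show e.symm (MonoidHom.transfer ν (toQ u)) = a
  have h1 : MonoidHom.transfer ν (toQ u) = MonoidHom.transfer ν (g * toQ u * g⁻¹) := by
    rw [map_mul, map_mul, map_inv, mul_comm (MonoidHom.transfer ν g), mul_inv_cancel_right]
  rw [h1, htr ⟨_, hgR⟩]
  have h2 : ν ⟨_, hgR⟩ = a := by
    refine wit_unique C hS hF hQg (hXw ⟨_, hgR⟩) ?_
    have hgm : IsMap F Q (autFun (g : MulAut Q)) := (isMap_autFun hQ.1).mpr g.2
    have h3 := wit_congr C hgm (img_autFun _) hwQ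
    have h4 : MulAut.congr (hgm.equiv (img_autFun _)) (toQ u : MulAut Q) =
        ((g * toQ u * g⁻¹ : F.autGroup Q) : MulAut Q) := by
      refine MulEquiv.ext fun y => Subtype.ext ?_
      rw [← autFun_apply, ← autFun_apply]
      have hy : autFun (g : MulAut Q)⁻¹ y ∈ Q := autFun_mem _ y.2
      conv_lhs => rw [← autFun_inv_apply (g : MulAut Q) y.2]
      rw [congr_equiv_spec hgm (img_autFun _) _ hy, Subgroup.coe_mul, Subgroup.coe_mul,
        Subgroup.coe_inv, autFun_mul _ _ y.2, autFun_mul _ _ hy]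
    rwa [h4] at h3
  rw [h2]
  exact e.symm_apply_apply a

open Classical in
/-- The degree of an automorphism. -/
noncomputable def deg (P : Subgroup Ω) (u : MulAut P) : A :=
  if h : u ∈ F.autGroup P ∧ ∃ χ : F.autGroup P →* A, IsDeg C P χ then
    h.2.choose ⟨u, h.1⟩ else 1

theorem deg_spec (hS : IsPGroup p S) (hF : F.IsSaturated p) {P : Subgroup Ω} (hP : Good C P) :
    ∃ χ : F.autGroup P →* A, IsDeg C P χ ∧ ∀ u : F.autGroup P, deg C P (u : MulAut P) = χ u := by
  obtain ⟨χ₀, h₀⟩ := exists_deg C hS hF hP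
  have hex : ∃ χ : F.autGroup P →* A, IsDeg C P χ := ⟨χ₀, h₀⟩
  refine ⟨hex.choose, hex.choose_spec, fun u => ?_⟩
  rw [deg, dif_pos ⟨u.2, hex⟩]

theorem deg_mul (hS : IsPGroup p S) (hF : F.IsSaturated p) {P : Subgroup Ω} (hP : Good C P)
    {u v : MulAut P} (hu : u ∈ F.autGroup P) (hv : v ∈ F.autGroup P) :
    deg C P (u * v) = deg C P u * deg C P v := by
  obtain ⟨χ, -, e⟩ := deg_spec C hS hF hP
  rw [e ⟨u, hu⟩, e ⟨v, hv⟩, ← map_mul, ← e]
  rfl

theorem deg_one (hS : IsPGroup p S) (hF : F.IsSaturated p) {P : Subgroup Ω} (hP : Good C P) :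
    deg C P 1 = 1 := by
  obtain ⟨χ, -, e⟩ := deg_spec C hS hF hP
  rw [show (1 : MulAut P) = ((1 : F.autGroup P) : MulAut P) from rfl, e, map_one]

theorem deg_coprime (hS : IsPGroup p S) (hF : F.IsSaturated p) {P : Subgroup Ω} (hP : Good C P)
    {u : MulAut P} (hu : u ∈ F.autGroup P) (h : (orderOf u).Coprime p) : deg C P u = 1 := by
  obtain ⟨χ, -, e⟩ := deg_spec C hS hF hP
  rw [e ⟨u, hu⟩]
  exact hom_eq_one_of_coprime C χ (by rwa [Subgroup.orderOf_mk])

theorem deg_of_wit (hS : IsPGroup p S) (hF : F.IsSaturated p) {P : Subgroup Ω} (hP : Good C P)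
    {u : MulAut P} (hu : u ∈ F.autGroup P) (hk : ∃ k : ℕ, orderOf u = p ^ k) {a : A}
    (h : Wit C u a) : deg C P u = a := by
  obtain ⟨χ, hχ, e⟩ := deg_spec C hS hF hP
  rw [e ⟨u, hu⟩]
  exact hχ.wit _ a (by simpa only [Subgroup.orderOf_mk] using hk) h

theorem deg_conjAut (hS : IsPGroup p S) (hF : F.IsSaturated p) {P : Subgroup Ω} (hP : Good C P)
    {x : Ω} (hx : x ∈ S) {u : MulAut P} (e : ∀ y ∈ P, autFun u y = x * y * x⁻¹) :
    deg C P u = C.μ x := by
  haveI := finite_of_le hP.1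
  have hxn : x ∈ Subgroup.normalizer (P : Set Ω) :=
    mem_normalizer_of_maps_finite fun y hy => e y hy ▸ autFun_mem u hy
  have hu : u = conjAut P x hxn := MulEquiv.ext fun y => Subtype.ext (by
    rw [← autFun_apply, e y y.2, conjAut_apply])
  have hmem : u ∈ autInducedBy S P := hu ▸ conjAut_mem_autInducedBy hxn hx
  obtain ⟨k, hk⟩ := IsPGroup.iff_orderOf.mp (isPGroup_autInducedBy hS P) ⟨u, hmem⟩
  rw [Subgroup.orderOf_mk] at hk
  exact deg_of_wit C hS hF hP (autInducedBy_le hP.1 hmem) ⟨k, hk⟩ (wit_conjAut C hP.1 hx e)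

/-- Compatibility along a homomorphism between automizers that preserves witnesses. -/
theorem deg_compat (hS : IsPGroup p S) (hF : F.IsSaturated p) {P R : Subgroup Ω} (hP : Good C P)
    (hR : Good C R) {u : MulAut P} (hu : u ∈ F.autGroup P) {u' : MulAut R}
    (hu' : u' ∈ F.autGroup R) (hord : orderOf u' ∣ orderOf u)
    (hwit : ∀ (n : ℕ) (a : A), Wit C (u ^ n) a → Wit C (u' ^ n) a) :
    deg C R u' = deg C P u := by
  haveI := finite_of_le hP.1
  haveI := finite_of_le hR.1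
  haveI : Finite (MulAut P) := Finite.of_injective (fun f : MulAut P => (f : P → P))
    DFunLike.coe_injective
  obtain ⟨a, b, ha, hb, hab, hak, hbc⟩ := Cfsg.Lib.Transfer.exists_pPart p u
  obtain ⟨i, rfl⟩ := (mem_powers_iff_mem_zpowers.mpr ha : a ∈ Submonoid.powers u)
  obtain ⟨j, rfl⟩ := (mem_powers_iff_mem_zpowers.mpr hb : b ∈ Submonoid.powers u)
  simp only at hab hak hbc
  obtain ⟨k, hk⟩ := hak
  have hd : ∀ n : ℕ, orderOf (u' ^ n) ∣ orderOf (u ^ n) := fun n =>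
    orderOf_dvd_of_pow_eq_one (by
      rw [← pow_mul]
      refine orderOf_dvd_iff_pow_eq_one.mp (hord.trans (orderOf_dvd_of_pow_eq_one ?_))
      rw [pow_mul, pow_orderOf_eq_one])
  have hab' : u' ^ i * u' ^ j = u' := by
    rw [← pow_add] at hab ⊢
    have h1 : u ^ (i + j) = u ^ 1 := by rw [hab, pow_one]
    conv_rhs => rw [← pow_one u']
    exact pow_eq_pow_iff_modEq.mpr ((pow_eq_pow_iff_modEq.mp h1).of_dvd hord)
  have hui := Subgroup.pow_mem _ hu i
  have hu'i := Subgroup.pow_mem _ hu' i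
  obtain ⟨k', -, hk'⟩ := (Nat.dvd_prime_pow (Fact.out : p.Prime)).mp (hk ▸ hd i)
  obtain ⟨c, hc⟩ := exists_wit C hS hF hP.1 hui ⟨k, hk⟩
  conv_lhs => rw [← hab']
  conv_rhs => rw [← hab]
  rw [deg_mul C hS hF hR hu'i (Subgroup.pow_mem _ hu' j), deg_mul C hS hF hP hui
      (Subgroup.pow_mem _ hu j),
    deg_coprime C hS hF hR (Subgroup.pow_mem _ hu' j) (Nat.Coprime.coprime_dvd_left (hd j) hbc),
    deg_coprime C hS hF hP (Subgroup.pow_mem _ hu j) hbc,
    deg_of_wit C hS hF hP hui ⟨k, hk⟩ hc, deg_of_wit C hS hF hR hu'i ⟨k', hk'⟩ (hwit i c hc)]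

theorem deg_restrict (hS : IsPGroup p S) (hF : F.IsSaturated p) {P R : Subgroup Ω} (hP : Good C P)
    (hR : Good C R) (hRP : R ≤ P) {u : MulAut P} (hu : u ∈ F.autGroup P) {u' : MulAut R}
    (hu' : u' ∈ F.autGroup R) (e : ∀ y ∈ R, autFun u y = autFun u' y) :
    deg C R u' = deg C P u := by
  have hpow := fun n => autFun_pow_agree u u' hRP e n
  refine deg_compat C hS hF hP hR hu hu' (orderOf_dvd_of_pow_eq_one (eq_one_of_autFun fun y hy => ?_))
    fun n a h => wit_mono C hRP (hpow n) h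
  rw [← hpow _ y hy, pow_orderOf_eq_one, autFun_one (hRP hy)]

theorem deg_congr (hS : IsPGroup p S) (hF : F.IsSaturated p) {P Q : Subgroup Ω} (hP : Good C P)
    {f : Ω → Ω} (hf : IsMap F P f) (hi : img P f = Q) {u : MulAut P} (hu : u ∈ F.autGroup P) :
    deg C Q (MulAut.congr (hf.equiv hi) u) = deg C P u := by
  refine deg_compat C hS hF hP (hi ▸ good_img C hP hf) hu (congr_mem_autGroup hf hi hu)
    (orderOf_injective (MulAut.congr (hf.equiv hi)).toMonoidHom
      (MulAut.congr (hf.equiv hi)).injective u).dvd fun n a h => ?_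
  rw [← map_pow]
  exact wit_congr C hf hi h

end Cfsg.Lib.Fusion.PDeg
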