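import Cfsg.Agent.Fusion.PPowerDegree.Automizer
import Cfsg.Agent.Fusion.Puig
import Cfsg.Agent.Fusion.NormalCriteria

/-!
The degree of a map of a saturated fusion system.
-/

set_option autoImplicit false
set_option linter.unusedSectionVars false
set_option linter.style.haveILetI false

namespace Cfsg.Lib.Fusion.PDeg

open Cfsg Cfsg.FusionSystem Cfsg.Lib.Fusion

universe u v

variable {Ω : Type u} [Group Ω] {S T : Subgroup Ω} {F : FusionSystem S} {p : ℕ}
  {A : Type v} [CommGroup A] (C : Ctx F T p A)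

/-- A coherent degree on the subgroups of order at least `n`. -/
structure IsDegree (n : ℕ) (d : Subgroup Ω → (Ω → Ω) → A) : Prop where
  congr : ∀ {P : Subgroup Ω} {f f' : Ω → Ω}, IsMap F P f → Good C P → n ≤ Nat.card P →
    (∀ x ∈ P, f x = f' x) → d P f = d P f'
  comp : ∀ {P : Subgroup Ω} {f g : Ω → Ω}, IsMap F P f → IsMap F (img P f) g → Good C P →
    n ≤ Nat.card P → d P (g ∘ f) = d (img P f) g * d P f
  mono : ∀ {P R : Subgroup Ω} {f : Ω → Ω}, IsMap F P f → R ≤ P → Good C R → n ≤ Nat.card R →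
    d R f = d P f
  conj : ∀ {P : Subgroup Ω} {x : Ω}, P ≤ S → x ∈ S → Good C P → n ≤ Nat.card P →
    d P (fun y => x * y * x⁻¹) = C.μ x
  aut : ∀ {P : Subgroup Ω} {u : MulAut P}, u ∈ F.autGroup P → Good C P → n ≤ Nat.card P →
    d P (autFun u) = deg C P u

variable [Finite S] [Fact p.Prime]

/-- Near a fully normalized subgroup the degree is that of the restriction. -/
theorem degree_normalizer (hS : IsPGroup p S) (hF : F.IsSaturated p) {d : Subgroup Ω → (Ω → Ω) → A}
    {Q : Subgroup Ω} (hd : IsDegree C (Nat.card Q + 1) d) (hQ : F.IsFullyNormalized Q)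
    (hQg : Good C Q) {K : Subgroup Ω} (hQK : Q ≤ K) (hcard : Nat.card Q < Nat.card K)
    (hKN : K ≤ normalizerIn S Q) {k : Ω → Ω} (hk : IsMap F K k)
    (hkN : ∀ x ∈ K, k x ∈ normalizerIn S Q) {a : MulAut Q} (ha : a ∈ F.autGroup Q)
    (hak : ∀ y ∈ Q, k y = autFun a y) : d K k = deg C Q a := by
  have hN := isNormalizerSystem_normalizerSystem (F := F) hQ.1
  set NS := normalizerIn S Q
  have hNS : NS ≤ S := inf_le_left
  haveI := finite_of_le hNS
  haveI := finite_of_le hQ.1
  have hQN : Q ≤ NS := le_normalizerIn hQ.1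
  let Φ : Subgroup Ω → (Ω → Ω) → Prop := fun R g => Q ≤ R → Nat.card Q < Nat.card R →
    ∀ b ∈ F.autGroup Q, (∀ y ∈ Q, g y = autFun b y) → d R g = deg C Q b
  have hfix : ∀ {R : Subgroup Ω} {g : Ω → Ω}, IsMap (normalizerSystem F hQ.1) R g → Q ≤ R → img Q g = Q := by
    intro R g hg hQR
    obtain ⟨-, -, -, e, he, hee, hei⟩ := (isMap_of_isNormalizerSystem hN).mp hg
    exact (img_congr fun x hx => (hee x (hQR hx)).symm).trans hei
  have hF' : ∀ {R : Subgroup Ω} {g : Ω → Ω}, IsMap (normalizerSystem F hQ.1) R g → IsMap F R g := fun hg =>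
    ((isMap_of_isNormalizerSystem hN).mp hg).2.2.1
  have hgood : ∀ {R : Subgroup Ω}, Q ≤ R → R ≤ S → Good C R := fun h h' =>
    good_of_le C hQg h h'
  have hcls : IsMapClass (normalizerSystem F hQ.1) Φ :=
    { conj := fun R t hR ht hQR hc b hb eb => by
        rw [hd.conj (hR.trans hNS) ht.1 (hgood hQR (hR.trans hNS)) hc]
        exact (deg_conjAut C hS hF hQg ht.1 fun y hy => (eb y hy).symm).symm
      congr := fun R g g' hg e h hQR hc b hb eb => by
        rw [← h hQR hc b hb fun y hy => (e y (hQR hy)).symm.trans (eb y hy)]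
        exact (hd.congr (hF' hg) (hgood hQR (hF' hg).le) hc fun x hx => (e x hx).symm).symm
      mono := fun R R' g hg hR h hQR hc b hb eb => by
        haveI := finite_of_le (hF' hg).le
        rw [hd.mono (hF' hg) hR (hgood hQR (hR.trans (hF' hg).le)) hc]
        exact h (hQR.trans hR) (hc.trans_le (Subgroup.card_le_of_le hR)) b hb eb
      comp := fun R R' f g hf hg hfg h h' hQR hc b hb eb => by
        haveI := finite_of_le (hF' hg).le
        have hi : img R f ≤ R' := IsMap.img_le_iff.mpr hfg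
        have hQi : Q ≤ img R f := (hfix hf hQR).ge.trans (img_mono hQR f)
        obtain ⟨b₁, hb₁, e₁⟩ := ((hF' hf).mono hQR).exists_aut (hfix hf hQR)
        obtain ⟨b₂, hb₂, e₂⟩ :=
          ((hF' hg).mono (hQi.trans hi)).exists_aut (hfix hg (hQi.trans hi))
        have hb12 : b = b₂ * b₁ := MulEquiv.ext fun y => Subtype.ext (by
          rw [← autFun_apply, ← autFun_apply, ← eb y y.2, autFun_mul _ _ y.2,
            e₂ _ (autFun_mem _ y.2), e₁ y y.2]
          rfl)
        have hci : Nat.card Q < Nat.card (img R f) := (hF' hf).card_img.symm ▸ hc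
        rw [hd.comp (hF' hf) ((hF' hg).mono hi) (hgood hQR (hF' hf).le) hc,
          h hQR hc b₁ hb₁ (fun y hy => (e₁ y hy).symm),
          hd.mono (hF' hg) hi (hgood hQi (hF' hf).img_le) hci,
          h' (hQi.trans hi) (hci.trans_le (Subgroup.card_le_of_le hi)) b₂ hb₂
            (fun y hy => (e₂ y hy).symm), hb12, deg_mul C hS hF hQg hb₂ hb₁]
      inv := fun R f g hf hg hl h hQi hc b hb eb => by
        have hQR : Q ≤ R := by
          rw [← hfix hg hQi]
          refine IsMap.img_le_iff.mpr fun y hy => ?_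
          obtain ⟨x, hx, rfl⟩ := hf.mem_img.mp (hQi hy)
          rwa [hl x hx]
        have hcR : Nat.card Q < Nat.card R := (hF' hf).card_img ▸ hc
        have hbi : ∀ y ∈ Q, f y = autFun b⁻¹ y := fun y hy => by
          obtain ⟨z, hz, rfl⟩ : ∃ z ∈ Q, g z = y :=
            ((hF' hg).mono hQi).mem_img.mp (by rw [hfix hg hQi]; exact hy)
          obtain ⟨x, hx, rfl⟩ := hf.mem_img.mp (hQi hz)
          rw [hl x hx]
          have := eb _ hz
          rw [hl x hx] at this
          conv_rhs => rw [this, autFun_inv_apply' b hz]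
        have hgR : Good C R := hgood hQR (hF' hf).le
        have h1 : d R (g ∘ f) = 1 := by
          rw [hd.congr ((hF' hf).comp (hF' hg) fun x hx => IsMap.apply_mem_img hx) hgR hcR
            (f' := fun y => (1 : Ω) * y * 1⁻¹) (fun x hx => by
              show g (f x) = _
              rw [hl x hx]; simp), hd.conj (hF' hf).le S.one_mem hgR hcR, μ_one C]
        rw [hd.comp (hF' hf) (hF' hg) hgR hcR,
          h hQR hcR b⁻¹ (Subgroup.inv_mem _ hb) hbi] at h1
        have h2 : deg C Q b * deg C Q b⁻¹ = 1 := by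
          rw [← deg_mul C hS hF hQg hb (Subgroup.inv_mem _ hb), mul_inv_cancel,
            deg_one C hS hF hQg]
        exact mul_right_cancel (h1.trans h2.symm) }
  have haut : ∀ {R : Subgroup Ω} {g : Ω → Ω}, IsMap (normalizerSystem F hQ.1) R g → img R g = R → Φ R g := by
    intro R g hg hgi hQR hc b hb eb
    obtain ⟨u, hu, eu⟩ := (hF' hg).exists_aut hgi
    have hgR := hgood hQR (hF' hg).le
    rw [hd.congr (hF' hg) hgR hc fun x hx => (eu x hx).symm, hd.aut hu hgR hc]
    exact (deg_restrict C hS hF hgR hQg hQR hu hb fun y hy => by rw [eu y (hQR hy), eb y hy]).symm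
  have hNp : IsPGroup p NS := hS.of_injective _ (Subgroup.inclusion_injective hNS)
  have hkm : IsMap (normalizerSystem F hQ.1) K k := (isMap_of_isNormalizerSystem hN).mpr ⟨hKN, hkN, hk, k,
    hk.mono (sup_le le_rfl hQK), fun _ _ => rfl, (img_congr hak).trans (img_autFun a)⟩
  exact alperin_induction hNp (saturated_normalizerSystem hS hF hQ) hcls
    (fun g hg => haut hg (Subgroup.eq_of_le_of_card_ge hg.img_le hg.card_img.ge))
    (fun Q' hQ' _ _ _ α hα => haut ((isMap_autFun hQ'.le).mpr hα) (img_autFun α))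
    hkm hQK hcard a ha hak

/-! ### The induction step -/

/-- The chosen fully normalized conjugate. -/
noncomputable def rep (F : FusionSystem S) (P : Subgroup Ω) : Subgroup Ω :=
  Classical.epsilon fun Q => F.IsConj P Q ∧ F.IsFullyNormalized Q

/-- The chosen map onto it. -/
noncomputable def sel (F : FusionSystem S) (P : Subgroup Ω) : Ω → Ω :=
  Classical.epsilon fun h => IsMap F (normalizerIn S P) h ∧ img P h = rep F P ∧
    ∀ t ∈ normalizerIn S P, h t ∈ normalizerIn S (rep F P)

theorem rep_spec {P : Subgroup Ω} (hP : P ≤ S) :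
    F.IsConj P (rep F P) ∧ F.IsFullyNormalized (rep F P) :=
  Classical.epsilon_spec (exists_fullyNormalized (F := F) hP)

theorem rep_eq {P U : Subgroup Ω} (h : F.IsConj P U) : rep F U = rep F P :=
  congrArg Classical.epsilon (funext fun Q => propext
    ⟨fun hq => ⟨isConj_trans h hq.1, hq.2⟩, fun hq => ⟨isConj_trans (isConj_symm h) hq.1, hq.2⟩⟩)

theorem sel_spec (hS : IsPGroup p S) (hF : F.IsSaturated p) {P : Subgroup Ω} (hP : P ≤ S) :
    IsMap F (normalizerIn S P) (sel F P) ∧ img P (sel F P) = rep F P ∧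
      ∀ t ∈ normalizerIn S P, sel F P t ∈ normalizerIn S (rep F P) := by
  refine Classical.epsilon_spec (p := fun h => IsMap F (normalizerIn S P) h ∧
    img P h = rep F P ∧ ∀ t ∈ normalizerIn S P, h t ∈ normalizerIn S (rep F P)) ?_
  obtain ⟨hc, hn⟩ := rep_spec (F := F) hP
  obtain ⟨f, hf, hi⟩ := isConj_iff.mp hc
  obtain ⟨-, hfa, hrec⟩ := fullyNormalized_props hS hF hn
  obtain ⟨-, -, g, hg, hgi, -, hgN⟩ := exists_map_normalizer hS hfa hrec hf hi
  exact ⟨g, hg, hgi, hgN⟩

variable (d₀ : Subgroup Ω → (Ω → Ω) → A) (n : ℕ)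

open Classical in
/-- The correction at a subgroup. -/
noncomputable def delta (F : FusionSystem S) (P : Subgroup Ω) : A :=
  if n < Nat.card (normalizerIn S P) then d₀ (normalizerIn S P) (sel F P) else 1

/-- The value at a subgroup of order `n`. -/
noncomputable def val (P : Subgroup Ω) (f : Ω → Ω) : A :=
  (delta d₀ n F (img P f))⁻¹ * deg C (rep F P)
    (Classical.epsilon fun a : MulAut (rep F P) => a ∈ F.autGroup (rep F P) ∧
      ∀ y ∈ P, sel F (img P f) (f y) = autFun a (sel F P y)) * delta d₀ n F P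

open Classical in
/-- The extended degree. -/
noncomputable def extend (P : Subgroup Ω) (f : Ω → Ω) : A :=
  if Nat.card P = n then val C d₀ n P f else d₀ P f

theorem exists_rel (hS : IsPGroup p S) (hF : F.IsSaturated p) {P : Subgroup Ω} {f : Ω → Ω}
    (hf : IsMap F P f) {Q : Subgroup Ω} (hQ : rep F P = Q) :
    ∃ a : MulAut Q, a ∈ F.autGroup Q ∧ ∀ y ∈ P, sel F (img P f) (f y) = autFun a (sel F P y) := by
  subst hQ
  obtain ⟨hU, hUi, -⟩ := sel_spec hS hF hf.img_le
  obtain ⟨hP, hPi, -⟩ := sel_spec hS hF hf.le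
  rw [rep_eq (isConj_iff.mpr ⟨f, hf, rfl⟩)] at hUi
  have hP' := hP.mono (le_normalizerIn hf.le)
  obtain ⟨k, hk, -, hkl, -⟩ := hP'.exists_inv
  rw [hPi] at hk
  have hkP : ∀ y ∈ rep F P, k y ∈ P := fun y hy => by
    obtain ⟨z, hz, rfl⟩ := hP'.mem_img.mp (hPi.symm ▸ hy)
    rwa [hkl z hz]
  have hUm := hU.mono (le_normalizerIn hf.img_le)
  have hm : IsMap F (rep F P) (sel F (img P f) ∘ (f ∘ k)) :=
    (hk.comp hf hkP).comp hUm fun y hy => IsMap.apply_mem_img (hkP y hy)
  have hmi : ∀ y ∈ rep F P, (sel F (img P f) ∘ (f ∘ k)) y ∈ rep F P := fun y hy =>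
    hUi ▸ IsMap.apply_mem_img (IsMap.apply_mem_img (hkP y hy))
  obtain ⟨a, ha, ea⟩ := hm.exists_aut (img_eq_of_apply hm le_rfl hmi)
  refine ⟨a, ha, fun y hy => ?_⟩
  rw [ea _ (by rw [← hPi]; exact IsMap.apply_mem_img hy)]
  show _ = sel F (img P f) (f (k (sel F P y)))
  rw [hkl y hy]

theorem val_eq (hS : IsPGroup p S) (hF : F.IsSaturated p) {P : Subgroup Ω} {f : Ω → Ω}
    (hf : IsMap F P f) {Q : Subgroup Ω} (hQ : rep F P = Q) {a : MulAut Q} (ha : a ∈ F.autGroup Q)
    (e : ∀ y ∈ P, sel F (img P f) (f y) = autFun a (sel F P y)) :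
    val C d₀ n P f = (delta d₀ n F (img P f))⁻¹ * deg C Q a * delta d₀ n F P := by
  subst hQ
  obtain ⟨hP, hPi, -⟩ := sel_spec hS hF hf.le
  have hex : ∃ b : MulAut (rep F P), b ∈ F.autGroup (rep F P) ∧
      ∀ y ∈ P, sel F (img P f) (f y) = autFun b (sel F P y) := ⟨a, ha, e⟩
  have hb := (Classical.epsilon_spec hex).2
  unfold val
  congr 3
  refine MulEquiv.ext fun z => Subtype.ext ?_
  obtain ⟨y, hy, hyz⟩ := (hP.mono (le_normalizerIn hf.le)).mem_img.mp (by rw [hPi]; exact z.2)
  rw [← autFun_apply, ← autFun_apply, ← hyz, ← e y hy]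
  exact (hb y hy).symm

variable {d₀ n}

theorem isDegree_extend (hS : IsPGroup p S) (hF : F.IsSaturated p) (hd : IsDegree C (n + 1) d₀) :
    IsDegree C n (extend C d₀ n) := by
  have hnew : ∀ {P : Subgroup Ω} (f : Ω → Ω), Nat.card P = n →
      extend C d₀ n P f = val C d₀ n P f := fun f h => if_pos h
  have hold : ∀ {P : Subgroup Ω} (f : Ω → Ω), n < Nat.card P → extend C d₀ n P f = d₀ P f :=
    fun f h => if_neg h.ne'
  have hstep : ∀ {K R : Subgroup Ω} {f : Ω → Ω}, IsMap F K f → R ≤ K → K ≤ normalizerIn S R →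
      Nat.card R = n → Good C R → n < Nat.card K → val C d₀ n R f = d₀ K f := by
    intro K R f hf hRK hKN hR hRg hK
    have hfR := hf.mono hRK
    obtain ⟨hQc, hQn⟩ := rep_spec (F := F) hfR.le
    set Q := rep F R with hQ
    obtain ⟨a, ha, ea⟩ := exists_rel hS hF hfR hQ.symm
    rw [val_eq C d₀ n hS hF hfR hQ.symm ha ea]
    set U := img R f
    obtain ⟨hsR, hsRi, hsRN⟩ := sel_spec hS hF hfR.le
    obtain ⟨hsU, hsUi, hsUN⟩ := sel_spec hS hF hfR.img_le
    rw [rep_eq (isConj_iff.mpr ⟨f, hfR, rfl⟩)] at hsUi hsUN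
    set hR' := sel F R
    have hsRi' : img R hR' = Q := hsRi.trans hQ.symm
    set hU' := sel F U
    have hfK : ∀ x ∈ K, f x ∈ normalizerIn S U := fun x hx =>
      hf.mem_normalizerIn hRK hx (hKN hx).2
    have hiK : img K f ≤ normalizerIn S U := IsMap.img_le_iff.mpr hfK
    have hrK := hsR.mono hKN
    obtain ⟨kR, hkR, -, hkRl, -⟩ := hrK.exists_inv
    have hkRm : ∀ y ∈ img K hR', kR y ∈ K := fun y hy => by
      obtain ⟨x, hx, rfl⟩ := hrK.mem_img.mp hy
      rwa [hkRl x hx]
    have hk : IsMap F (img K hR') (hU' ∘ (f ∘ kR)) :=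
      (hkR.comp hf hkRm).comp hsU fun y hy => hfK _ (hkRm y hy)
    have hKg : Good C K := good_of_le C hRg hRK hf.le
    have hQg : Good C Q := good_conj C hRg hQc
    have hcQ : Nat.card Q = n := (isConj_card hQc).trans hR
    have hK' : n + 1 ≤ Nat.card K := hK
    haveI := finite_of_le hsR.le
    haveI := finite_of_le hsU.le
    have hclaim := degree_normalizer C hS hF (d := d₀) (by rw [hcQ]; exact hd) hQn hQg
      (by rw [← hsRi']; exact img_mono hRK hR') (by rw [hcQ, hrK.card_img]; exact hK)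
      (IsMap.img_le_iff.mpr fun x hx => hsRN x (hKN hx)) hk
      (fun y hy => hsUN _ (hfK _ (hkRm y hy))) ha fun y hy => by
        obtain ⟨x, hx, rfl⟩ := (hrK.mono hRK).mem_img.mp (by rw [hsRi']; exact hy)
        show hU' (f (kR (hR' x))) = _
        rw [hkRl x (hRK hx), ea x hx]
    have h1 : d₀ K ((hU' ∘ (f ∘ kR)) ∘ hR') = d₀ (img K hR') (hU' ∘ (f ∘ kR)) * d₀ K hR' :=
      hd.comp hrK hk hKg hK'
    have h2 : d₀ K (hU' ∘ f) = d₀ (img K f) hU' * d₀ K f :=
      hd.comp hf (hsU.mono hiK) hKg hK'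
    rw [hclaim, hd.congr (f' := hU' ∘ f) (hrK.comp hk fun x hx => IsMap.apply_mem_img hx) hKg hK'
      (fun x hx => by show hU' (f (kR (hR' x))) = hU' (f x); rw [hkRl x hx]), h2,
      hd.mono hsU hiK (good_img C hKg hf) (hf.card_img.symm ▸ hK'),
      hd.mono hsR hKN hKg hK'] at h1
    have hdR : delta d₀ n F R = d₀ (normalizerIn S R) hR' :=
      if_pos (hK.trans_le (Subgroup.card_le_of_le hKN))
    have hdU : delta d₀ n F U = d₀ (normalizerIn S U) hU' :=
      if_pos ((hf.card_img.symm ▸ hK : n < Nat.card (img K f)).trans_le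
        (Subgroup.card_le_of_le hiK))
    rw [hdR, hdU, mul_assoc, ← h1, inv_mul_cancel_left]
  have hmono : ∀ {P R : Subgroup Ω} {f : Ω → Ω}, IsMap F P f → R ≤ P → Good C R →
      n ≤ Nat.card R → extend C d₀ n R f = extend C d₀ n P f := by
    intro P R f hf hRP hR hn
    haveI := finite_of_le hf.le
    rcases hn.lt_or_eq with hn | hn
    · rw [hold f hn, hold f (hn.trans_le (Subgroup.card_le_of_le hRP))]
      exact hd.mono hf hRP hR hn
    rcases eq_or_ne R P with rfl | hne
    · rfl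
    have hlt := lt_inf_normalizer hS (lt_of_le_of_ne hRP hne) hf.le
    set K := P ⊓ Subgroup.normalizer (R : Set Ω)
    have hKP : K ≤ P := inf_le_left
    haveI := finite_of_le (hKP.trans hf.le)
    have hcK : n < Nat.card K := hn ▸ lt_of_le_of_ne (Subgroup.card_le_of_le hlt.le) fun h =>
      hlt.ne (Subgroup.eq_of_le_of_card_ge hlt.le h.ge)
    rw [hnew f hn.symm, hold f (hcK.trans_le (Subgroup.card_le_of_le hKP)),
      hstep (hf.mono hKP) hlt.le (fun x hx => ⟨hf.le (hKP hx), hx.2⟩) hn.symm hR hcK]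
    exact hd.mono hf hKP (good_of_le C hR hlt.le (hKP.trans hf.le)) hcK
  refine ⟨fun {P f f'} hf hP hn e => ?_, fun {P f g} hf hg hP hn => ?_, hmono,
    fun {P x} hPS hx hP hn => ?_, fun {P u} hu hP hn => ?_⟩
  · rcases hn.lt_or_eq with hn | hn
    · rw [hold f hn, hold f' hn]
      exact hd.congr hf hP hn e
    · rw [hnew f hn.symm, hnew f' hn.symm]
      obtain ⟨a, ha, ea⟩ := exists_rel hS hF hf rfl
      have hi : img P f' = img P f := (img_congr e).symm
      rw [val_eq C d₀ n hS hF hf rfl ha ea, val_eq C d₀ n hS hF (hf.congr fun x hx => (e x hx).symm)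
        rfl ha (fun y hy => by rw [hi, ← e y hy]; exact ea y hy), hi]
  · rcases hn.lt_or_eq with hn | hn
    · rw [hold _ hn, hold _ hn, hold _ (hf.card_img.symm ▸ hn)]
      exact hd.comp hf hg hP hn
    · rw [hnew _ hn.symm, hnew _ hn.symm, hnew _ (hf.card_img.trans hn.symm)]
      set Q := rep F P with hQ
      have hQU : rep F (img P f) = Q := rep_eq (isConj_iff.mpr ⟨f, hf, rfl⟩)
      obtain ⟨a, ha, ea⟩ := exists_rel hS hF hf hQ.symm
      obtain ⟨b, hb, eb⟩ := exists_rel hS hF hg hQU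
      have hgf : IsMap F P (g ∘ f) := hf.comp hg fun x hx => IsMap.apply_mem_img hx
      obtain ⟨hsP, hsPi, -⟩ := sel_spec hS hF hf.le
      have hii : img P (g ∘ f) = img (img P f) g := img_comp hf hg
      rw [val_eq C d₀ n hS hF hgf hQ.symm (Subgroup.mul_mem _ hb ha) (fun y hy => by
          show sel F _ (g (f y)) = _
          rw [hii, eb _ (IsMap.apply_mem_img hy), ea y hy,
            autFun_mul _ _ (by rw [hQ, ← hsPi]; exact IsMap.apply_mem_img hy)]),
        val_eq C d₀ n hS hF hf hQ.symm ha ea, val_eq C d₀ n hS hF hg hQU hb eb, hii,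
        deg_mul C hS hF (good_conj C hP (rep_spec hf.le).1) hb ha]
      group
      rfl
  · rcases eq_or_ne P S with rfl | hne
    · rcases hn.lt_or_eq with hn | hn
      · rw [hold _ hn]
        exact hd.conj hPS hx hP hn
      rw [hnew _ hn.symm]
      have hm : IsMap F P (fun y => x * y * x⁻¹) := isMap_conj le_rfl hx
      have hmi : img P (fun y => x * y * x⁻¹) = P :=
        img_eq_of_apply hm le_rfl fun y hy => P.mul_mem (P.mul_mem hx hy) (P.inv_mem hx)
      obtain ⟨a, ha, ea⟩ := exists_rel hS hF hm rfl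
      obtain ⟨hsP, hsPi, -⟩ := sel_spec hS hF hm.le
      rw [hmi] at ea
      have hsP' := hsP.mono (le_normalizerIn le_rfl)
      rw [val_eq C d₀ n hS hF hm rfl ha (by rw [hmi]; exact ea), hmi, mul_right_comm,
        inv_mul_cancel, one_mul,
        deg_conjAut C hS hF (good_conj C hP (rep_spec le_rfl).1) (hsP'.mem_S hx)
          (fun y hy => by
            obtain ⟨z, hz, rfl⟩ := hsP'.mem_img.mp (hsPi.symm ▸ hy)
            rw [← ea z hz, hsP'.map_conj hx hz]),
        C.stable hsP' x hx]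
    · haveI := finite_of_le hPS
      have hlt := lt_normalizerIn hS (lt_of_le_of_ne hPS hne)
      have hNS : normalizerIn S P ≤ S := inf_le_left
      haveI := finite_of_le hNS
      have hcN : Nat.card P < Nat.card (normalizerIn S P) :=
        lt_of_le_of_ne (Subgroup.card_le_of_le hlt.le) fun h =>
          hlt.ne (Subgroup.eq_of_le_of_card_ge hlt.le h.ge)
      rw [hmono (isMap_conj hNS hx) hlt.le hP hn, hold _ (hn.trans_lt hcN)]
      exact hd.conj hNS hx (good_of_le C hP hlt.le hNS) (hn.trans_lt hcN)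
  · have hm : IsMap F P (autFun u) := (isMap_autFun hP.1).mpr hu
    rcases hn.lt_or_eq with hn | hn
    · rw [hold _ hn]
      exact hd.aut hu hP hn
    rw [hnew _ hn.symm]
    obtain ⟨hsP, hsPi, -⟩ := sel_spec hS hF hP.1
    have hsP' := hsP.mono (le_normalizerIn hP.1)
    rw [val_eq C d₀ n hS hF hm rfl (congr_mem_autGroup hsP' hsPi hu)
      (fun y hy => by rw [img_autFun, congr_equiv_spec hsP' hsPi u hy]), img_autFun,
      mul_right_comm, inv_mul_cancel, one_mul, deg_congr C hS hF hP hsP' hsPi hu]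

/-- A degree defined on all good subgroups. -/
theorem exists_degree (hS : IsPGroup p S) (hF : F.IsSaturated p) : ∃ d, IsDegree C 0 d := by
  refine Nat.decreasingInduction' (P := fun n => ∃ d, IsDegree C n d)
    (fun k _ _ ⟨d, hd⟩ => ⟨_, isDegree_extend C hS hF hd⟩) (Nat.zero_le (Nat.card S + 1))
    ⟨fun _ _ => 1, ?_⟩
  have key : ∀ {P : Subgroup Ω}, P ≤ S → Nat.card S + 1 ≤ Nat.card P → False := fun hP h => by
    have := Subgroup.card_le_of_le hP
    omega
  exact ⟨fun hf _ hn _ => (key hf.le hn).elim, fun hf _ _ hn => (key hf.le hn).elim,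
    fun hf hR _ hn => (key (hR.trans hf.le) hn).elim, fun hP _ _ hn => (key hP hn).elim,
    fun _ hP hn => (key hP.1 hn).elim⟩

end Cfsg.Lib.Fusion.PDeg
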